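import Cfsg.Agent.H0.TC
set_option maxRecDepth 100000
namespace H0.TCS623
open H0
noncomputable def tS : Tr := (.leaf (nat_lit 0x3fba9d8e0551bfe2d958310a6feb45c3850a07f70845b97333fb9408718b5bfe554742e7cdfe5d72d6000eff2ab4b00385bfa03668c9801fc000003460b))
noncomputable def tJ : Tr := (.leaf (nat_lit 0x444237200018114036300130326121100120622043060010200060201016010000000600555000))
noncomputable def tQ : Tr := (.leaf (nat_lit 0x0))
noncomputable def tR : TC.WTr := (.node (.node (.node (.node (.node (.leaf [0] 0 0 false) (.leaf [2, 5, 1] 16 3 false)) (.node (.leaf [0, 1, 1, 0, 2, 0, 4, 0] 12 2 true) (.leaf [0, 1, 0, 2, 2, 0, 2, 0] 12 8 false))) (.node (.node (.leaf [0] 0 0 false) (.leaf [4] 4 0 false)) (.node (.leaf [3, 1, 0] 11 2 false) (.leaf [4, 5, 4] 9 1 false)))) (.node (.node (.node (.leaf [4, 0, 1, 0, 2, 2, 0, 2] 12 7 false) (.leaf [4, 3, 5, 3, 4] 6 2 false)) (.node (.leaf [1] 1 1 false)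 (.leaf [0, 3, 4, 1] 17 1 false))) (.node (.node (.leaf [1, 1, 1] 10 0 false) (.leaf [1, 5, 0, 3] 17 4 false)) (.leaf [1] 1 1 false)))) (.node (.node (.node (.node (.leaf [2, 3, 1] 11 1 false) (.leaf [1, 0, 2] 11 3 false)) (.node (.leaf [2] 1 0 false) (.leaf [5] 5 0 false))) (.node (.node (.leaf [2] 1 0 false) (.leaf [3, 0, 5, 2] 17 0 true)) (.node (.leaf [1] 1 1 false) (.leaf [2, 4, 3, 0] 17 3 true)))) (.node (.node (.node (.leaf [0] 0 0 false) (.leaf [0, 5, 2, 4] 17 1 true)) (.node (.leaf [5, 1, 3] 16 0 false) (.leaf [1, 3, 2] 16 1 false))) (.node (.node (.leaf [5, 0, 3, 4] 17 0 false) (.leaf [0, 1, 0, 1, 1, 0, 2, 0] 12 0 true)) (.leaf [3] 3 0 false)))))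
def hl : List ℕ := [3, 4, 5]
def B : List (List ℕ) := [[0, 0], [1, 2], [2, 1], [3, 3], [4, 4], [5, 5], [3, 4, 3, 4, 3, 5], [3, 4, 3, 4, 3, 4, 3, 4, 3, 4, 3, 4], [3, 4, 3, 4, 3, 4, 3, 4, 3, 4, 3, 4], [4, 5, 4, 5], [1, 1, 1, 1], [1, 0, 2, 3], [0, 1, 0, 2, 2, 0, 2, 0, 4], [0, 1, 0, 1, 0, 1, 0, 1, 0, 1], [0, 1, 0, 2, 0, 1, 0, 2, 0, 1, 0, 2], [0, 2, 0, 2, 0, 2, 0, 2, 0, 2], [2, 5, 1, 3], [1, 5, 0, 3, 4]]
def subs : List (List ℕ) := [[3], [4], [5]]
def ex : List (List ℕ) := []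
def inv (x : ℕ) : ℕ := [0, 2, 1, 3, 4, 5].getD x 0
noncomputable def rS : ℕ → ℕ := rowOf tS (nat_lit 8) (nat_lit 255) (nat_lit 49) (nat_lit 562949953421311)
noncomputable def rJ : ℕ → ℕ := rowOf tJ (nat_lit 8) (nat_lit 255) (nat_lit 32) (nat_lit 4294967295)
noncomputable def C : TC.Cfg where
  S := look rS (nat_lit 7) (nat_lit 127)
  J := look rJ (nat_lit 4) (nat_lit 15)
  Q := lookQ tQ (nat_lit 8) (nat_lit 1) (nat_lit 1)
  R := tR.get
  hl := fun x => hl.contains x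
  n := (nat_lit 10)
  M := (nat_lit 10)
  top := (nat_lit 100)
  nl := (nat_lit 6)
  need := (nat_lit 6)
  nr := (nat_lit 5)
theorem k0 : TC.chkRange C 0 1 = true := by decide +kernel
theorem rows0 : ∀ c < (0 + 1) * 64, c < C.M → TC.chkRow C c = true :=
  TC.rows_step (TC.rows_zero C) k0
theorem main {G : Type*} [Group G] (g : ℕ → G) (hB : ∀ r ∈ B, ev g r = 1) (H : Subgroup G)
    (hH : ∀ w ∈ subs, ev g w ∈ H) :
    H.relIndex (Subgroup.closure (g '' {x | x < 6})) ≠ 0 ∧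
      H.relIndex (Subgroup.closure (g '' {x | x < 6})) ≤ 10 :=
  TC.index_le C B subs ex inv hl tR.hint rfl (by decide +kernel) (by decide +kernel)
    (TC.rows_done rows0 (by decide +kernel)) g hB H hH
end H0.TCS623
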